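/-
Project J4K: the Janko-four type conditions.
-/
import Cfsg.Agent.J4K.Blk
import Cfsg.Agent.S2062
import Cfsg.Agent.H14.MClasses
import Cfsg.Agent.H14.Local
import Cfsg.Agent.H57.ES

set_option autoImplicit false
set_option linter.unusedSectionVars false

namespace Cfsg.Agent.J4K

open Subgroup Equiv Cfsg.Agent.H70 Bk
open scoped commutatorElement

namespace Fn

open Cfsg.Agent.H14

theorem m22_center : center Spor.M22 = ⊥ :=
  (simple_M22.eq_bot_or_eq_top_of_normal _ inferInstance).resolve_right fun e => by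
    have := Fact.mk Nat.prime_two
    obtain ⟨K, hK⟩ := Sylow.exists_subgroup_card_pow_prime (G := Spor.M22) 2 (n := 1) (by rw [card_M22]; decide)
    rcases simple_M22.eq_bot_or_eq_top_of_normal K ⟨fun n hn g => by
      rwa [mem_center_iff.1 (e.ge (mem_top n)) g, mul_inv_cancel_right]⟩ with rfl | rfl
    · simp at hK
    · rw [card_top, card_M22] at hK
      exact absurd hK (by decide)

theorem m22_perfect : commutator Spor.M22 = ⊤ :=
  (simple_M22.eq_bot_or_eq_top_of_normal _ inferInstance).resolve_left fun e => by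
    rw [commutator_eq_bot_iff_center_eq_top, m22_center] at e
    have := congrArg (fun K : Subgroup Spor.M22 => Nat.card K) e
    simp only [card_top, card_bot, card_M22] at this
    exact absurd this (by decide)

theorem m22_aut : Nat.card (MulAut Spor.M22) = 887040 := by
  have hc : Function.Injective (MulAut.conj : Spor.M22 →* MulAut Spor.M22) :=
    (injective_iff_map_eq_one _).2 fun g hg => mem_bot.1 (m22_center.le (mem_center_iff.2 fun x =>
      (mul_inv_eq_iff_eq_mul.1 (congrArg (fun t : MulAut Spor.M22 => t x) hg)).symm))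
  rw [card_eq_card_quotient_mul_card_subgroup (Inn Spor.M22), S2062.result,
    ← Nat.card_congr (MonoidHom.ofInjective hc).toEquiv, card_M22]

theorem m22_nine {g : Spor.M22} (h : g ^ 9 = 1) : g ^ 3 = 1 := by
  have := Fact.mk Nat.prime_three
  by_contra h3
  obtain ⟨c, hc, -⟩ := m22_classes.conj_of_orderOf (o := 9) (f := 12) [] (by decide +kernel) g.2
    ((orderOf_coe g).trans (orderOf_eq_prime_pow (p := 3) (n := 1) h3 h))
  simp at hc

theorem m22_three {g h : Spor.M22} (g3 : g ^ 3 = 1) (g1 : g ≠ 1) (h3 : h ^ 3 = 1) (h1 : h ≠ 1) : IsConj g h := by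
  have := Fact.mk Nat.prime_three
  have A : ∀ g : Spor.M22, g ^ 3 = 1 → g ≠ 1 → ∃ a ∈ Spor.M22, a * GE.perm m22_3A.X * a⁻¹ = g := fun g g3 g1 => by
    obtain ⟨c, hc, a⟩ := m22_classes.conj_of_orderOf (f := 12) [m22_3A] (by decide +kernel) g.2
      ((orderOf_coe g).trans (orderOf_eq_prime g3 g1))
    rwa [List.mem_singleton.1 hc] at a
  obtain ⟨a, ha, e⟩ := A g g3 g1
  obtain ⟨b, hb, e'⟩ := A h h3 h1
  exact isConj_iff.2 ⟨⟨b * a⁻¹, mul_mem hb (inv_mem ha)⟩, Subtype.ext (by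
    simp only [coe_mul, coe_inv, ← e, ← e']; group)⟩

theorem burn {G : Type*} [Group G] [Finite G] {A Q : Subgroup G} (hn : A ≤ normalizer (Q : Set G)) [Fintype A] :
    Nat.card A ∣ ∑ a : A, {q | q ∈ Q ∧ (a : G) * q = q * a}.ncard := by
  classical
  letI : MulAction A Q := MulAction.compHom Q (Q.normalizerMonoidHom.comp (inclusion hn))
  have := Fintype.ofFinite Q
  have := Fintype.ofFinite (Quotient (MulAction.orbitRel A Q))
  have h := MulAction.sum_card_fixedBy_eq_card_orbits_mul_card_group A Q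
  rw [Nat.card_eq_fintype_card]
  refine Dvd.intro_left _ (h.symm.trans (Finset.sum_congr rfl fun a _ => ?_))
  rw [← Nat.card_eq_fintype_card, Nat.card_coe_set_eq, ← Set.ncard_image_of_injective _ Subtype.val_injective]
  congr 1
  ext q
  exact ⟨by rintro ⟨x, hx, rfl⟩; exact ⟨x.2, mul_inv_eq_iff_eq_mul.1 (congrArg Subtype.val hx)⟩,
    fun hq => ⟨⟨q, hq.1⟩, Subtype.ext (mul_inv_eq_iff_eq_mul.2 hq.2), rfl⟩⟩

end Fn

namespace Qd

open Fn

variable {G : Type*} [Group G] [Finite G] (D : Qd G)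

theorem fn_not_md {y : G} (y3 : y ^ 3 = 1) (y1 : y ≠ 1) : ¬ D.Md y 1 := by
  rintro (e | e)
  · exact y1 e
  · rw [e, one_mul, pow_three, D.z_sq, mul_one] at y3
    exact D.z_ne_one y3

theorem fn_p_not : D.p ∉ D.Q := fun h => D.fn_not_md D.p3 D.p_ne_one (D.X_inf_Q D.p_mem_X h)

theorem fn_p_mem (hM : Spor.IsoM22 D.M) : D.p ∈ ⁅D.X, D.X⁆ := by
  classical
  have := Fact.mk Nat.prime_three
  by_contra hp
  obtain ⟨e⟩ := hM
  obtain ⟨f, hf⟩ : ∃ f : D.X →* Spor.M22, f = e.toMonoidHom.comp (QuotientGroup.mk' D.C6) := ⟨_, rfl⟩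
  have fs : Function.Surjective f := hf ▸ e.surjective.comp (QuotientGroup.mk'_surjective _)
  have mY : ∀ y : D.X, y ∈ commutator D.X → (y : G) ∈ ⁅D.X, D.X⁆ := fun y hy => by
    have := mem_map_of_mem D.X.subtype hy
    rwa [map_subtype_commutator] at this
  have fk : ∀ y ∈ commutator D.X, f y = 1 → D.Md y 1 := fun y hy h => by
    rw [hf] at h
    obtain ⟨i, hi⟩ := D.mem_C6.1 ((QuotientGroup.eq_one_iff y).1 (e.map_eq_one_iff.1 h))
    have h1 : (D.p ^ i) ^ 2 ∈ ⁅D.X, D.X⁆ := by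
      have h2 := pow_mem (mY y hy) 2
      rcases hi with e1 | e1 <;> rw [e1] at h2
      · exact h2
      · rwa [(show Commute (D.p ^ i) D.z from (Commute.pow_right D.z_p i).symm).mul_pow, pow_two D.z, D.z_sq,
          mul_one] at h2
    rw [← pow_mod_orderOf D.p, D.orderOf_p] at hi h1
    have h3 : i % 3 < 3 := Nat.mod_lt _ (by decide)
    generalize i % 3 = j at *
    interval_cases j
    · rwa [pow_zero] at hi
    · exact absurd (mem_of_pow_mem_coprime (by decide : Nat.Coprime 2 3) (by rwa [pow_one] at h1)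
        (D.p3 ▸ one_mem _)) hp
    · exact absurd (mem_of_pow_mem_coprime (by decide : Nat.Coprime 4 3) (by rwa [← pow_mul] at h1)
        (D.p3 ▸ one_mem _)) hp
  have sX : ∀ s, D.sg s ∈ D.X := fun s => D.XA_le_X ⊤ (D.sg_mem_XA (mem_top s))
  obtain ⟨x, hx⟩ : ∃ x : D.X, (x : G) = D.sg xq := ⟨⟨_, sX xq⟩, rfl⟩
  have xY : x ∈ commutator D.X := by
    rw [show x = ⁅(⟨_, sX (swap 1 2)⟩ : D.X), ⟨_, sX (swap 1 3)⟩⁆ from Subtype.ext (by
      rw [hx, commutatorElement_def, coe_mul, coe_mul, coe_mul, coe_inv, coe_inv, ← map_inv, ← map_inv, ← map_mul,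
        ← map_mul, ← map_mul]
      exact congrArg D.sg (by decide))]
    exact commutator_mem_commutator (mem_top _) (mem_top _)
  have x3 : x ^ 3 = 1 := Subtype.ext (by rw [coe_pow, hx, ← map_pow, (by decide : xq ^ 3 = 1), map_one]; rfl)
  have n1 : ∀ y ∈ commutator D.X, y ^ 3 = 1 → y ≠ 1 → f y ≠ 1 := fun y hy y3 y1 h =>
    D.fn_not_md (congrArg Subtype.val y3) (fun e => y1 (Subtype.ext e)) (fk y hy h)
  have cnt : ∀ y ∈ commutator D.X, y ^ 9 = 1 → y ≠ 1 → {q | q ∈ D.Q ∧ (y : G) * q = q * y}.ncard = 32 :=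
    fun y hy y9 y1 => by
      have y3 : y ^ 3 = 1 := by_contra fun h => n1 _ (pow_mem hy 3) (by rw [← pow_mul, y9]) h (by
        rw [map_pow, m22_nine (by rw [← map_pow, y9, map_one])])
      obtain ⟨g, hg⟩ := isConj_iff.1 (m22_three (g := f y) (h := f x) (by rw [← map_pow, y3, map_one])
        (n1 y hy y3 y1) (by rw [← map_pow, x3, map_one]) (n1 x xY x3 fun h => by
          have := D.pi_sg xq
          rw [← hx, h, OneMemClass.coe_one, D.pi_one] at this
          exact absurd this (by decide)))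
      obtain ⟨g, rfl⟩ := fs g
      have h1 := fk _ (mul_mem (inv_mem xY) ((inferInstance : (commutator D.X).Normal).conj_mem y hy g)) (by
        rw [map_mul, map_mul, map_mul, map_inv, map_inv, hg, inv_mul_cancel])
      have h2 : (g : G) * y * (g : G)⁻¹ = D.sg xq := by
        rw [← hx]
        refine (inv_mul_eq_one.1 (h1.resolve_right fun h3 => D.z_ne_one ?_)).symm
        have h4 : (g : G) * y * (g : G)⁻¹ = x * D.z := by
          rw [← one_mul D.z, ← h3]; simp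
        have h5 := congrArg (· ^ 3) h4
        simp only [conj_pow] at h5
        rwa [(show Commute (x : G) D.z from D.mem_H.1 (D.X_le_H x.2)).mul_pow, ← coe_pow, ← coe_pow, y3, x3,
          OneMemClass.coe_one, mul_one, mul_inv_cancel, one_mul, pow_three, D.z_sq, mul_one, eq_comm] at h5
      rw [← D.card_fix_xq, ← h2, ← Set.ncard_image_of_injective _ (MulAut.conj (g : G)).injective]
      congr 1
      ext q
      refine ⟨?_, fun hq => ⟨(g : G)⁻¹ * q * g, ⟨D.bk_conj' (D.X_le_H g.2) hq.1, ?_⟩, by simp [mul_assoc]⟩⟩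
      · rintro ⟨r, hr, rfl⟩
        exact ⟨D.conj_Q (D.X_le_H g.2) hr.1, by rw [MulAut.conj_apply, conj_mul, conj_mul, hr.2]⟩
      · calc _ = (g : G)⁻¹ * (g * y * (g : G)⁻¹ * q) * g := by group
          _ = _ := by rw [hq.2]; group
  obtain ⟨B, hB⟩ := Sylow.exists_subgroup_card_pow_prime (G := commutator D.X) 3 (n := 2) (by
    have h1 := card_map_dvd (commutator D.X) f
    rw [_root_.commutator_def, map_commutator, map_top_of_surjective f fs, ← _root_.commutator_def, m22_perfect,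
      card_top, H14.card_M22] at h1
    exact Dvd.dvd.trans (by decide) h1)
  obtain ⟨A, hA⟩ : ∃ A, A = B.map (D.X.subtype.comp (commutator D.X).subtype) := ⟨_, rfl⟩
  have cA : Nat.card A = 9 := by
    rw [hA, card_map_of_injective (f := D.X.subtype.comp (commutator D.X).subtype)
      (D.X.subtype_injective.comp (commutator D.X).subtype_injective), hB]; rfl
  have mA : ∀ a : A, ∃ y ∈ commutator D.X, (y : G) = a := fun ⟨a, ha⟩ => by
    obtain ⟨y, -, rfl⟩ := hA.le ha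
    exact ⟨y, y.2, rfl⟩
  have := Fintype.ofFinite A
  have h1 := burn (A := A) (Q := D.Q) fun a ha => by
    obtain ⟨y, -, e⟩ := mA ⟨a, ha⟩
    exact mem_normalizer_fintype fun _ => D.conj_Q (D.X_le_H ((show (y : G) = a from e) ▸ y.2))
  rw [← Finset.add_sum_erase _ _ (Finset.mem_univ 1), Finset.sum_const_nat (m := 32) fun a ha => by
    obtain ⟨y, hy, e⟩ := mA a
    rw [← e]
    refine cnt y hy (Subtype.ext ?_) fun h => (Finset.mem_erase.1 ha).1 (Subtype.ext (by rw [← e, h]; rfl))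
    rw [coe_pow, e, ← cA, ← coe_pow, pow_card_eq_one']; rfl, Finset.card_erase_of_mem (Finset.mem_univ _),
    Finset.card_univ, ← Nat.card_eq_fintype_card, cA,
    show {q | q ∈ D.Q ∧ ((1 : A) : G) * q = q * (1 : A)} = D.Q from Set.ext fun q => by simp,
    show (D.Q : Set G).ncard = 2 ^ 13 from D.card_Q] at h1
  exact absurd h1 (by decide)

theorem fn_dec (hg : ∀ h ∈ D.H, D.Good h) {h : G} (hh : h ∈ D.H) :
    ∃ q ∈ D.Q, ∃ x ∈ D.X, h = q * x ∨ h = q * (x * D.io) := by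
  have A : ∀ h ∈ D.H, ∀ q ∈ D.Q, h * D.p * h⁻¹ = q * D.p → ∃ q ∈ D.Q, ∃ x ∈ D.X, h = q * x := fun h hh q hq e => by
    have := Fact.mk Nat.prime_three
    obtain ⟨k, hk, e1⟩ := coset_fix D.Q 3 (by rw [D.card_Q]; decide) 1 D.p⁻¹ (h * D.p * h⁻¹)
      (by rw [inv_pow, D.p3, inv_one]) (by rw [conj_pow, D.p3, mul_one, mul_inv_cancel]) fun k hk => by
        rw [inv_one, one_mul] at hk ⊢
        rw [e, ← mul_assoc, mul_assoc _ k]
        exact D.bk_conj' D.p_mem_H (mul_mem hk hq)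
    rw [inv_one, one_mul] at hk
    refine ⟨_, inv_mem hk, k * h, D.mem_X.2 ⟨mul_mem (D.Q_le_H hk) hh, ?_⟩, by group⟩
    calc k * h * D.p = D.p * (D.p⁻¹ * k * (h * D.p * h⁻¹)) * h := by group
      _ = _ := by rw [e1, mul_assoc]
  obtain ⟨x, hx, k, hk, rfl⟩ := hg h hh
  have xH := D.X_le_H hx
  have kH := (mul_mem_cancel_left xH).1 hh
  obtain ⟨q, hq, ⟨e, -⟩ | e⟩ := D.norm_p hk kH
  · obtain ⟨r, hr, y, hy, rfl⟩ := A k kH q hq e
    exact ⟨_, D.conj_Q xH hr, _, mul_mem hx hy, Or.inl (by group)⟩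
  · obtain ⟨r, hr, y, hy, e1⟩ := A _ (mul_mem kH (inv_mem D.io_mem_H)) _ (D.conj_Q D.p_mem_H (inv_mem hq)) (by
      have h1 : D.io⁻¹ * D.p * D.io = D.p⁻¹ := by
        conv_lhs => rw [← inv_inv D.p, ← D.io_p]
        group
      rw [show k * D.io⁻¹ * D.p * (k * D.io⁻¹)⁻¹ = k * (D.io⁻¹ * D.p * D.io) * k⁻¹ by group, h1, ← conj_inv, e]
      group)
    exact ⟨_, D.conj_Q xH hr, _, mul_mem hx hy, Or.inr (by rw [eq_mul_inv_iff_mul_eq.1 e1.symm |>.symm]; group)⟩

theorem janko (hg : ∀ h ∈ D.H, D.Good h) (hM : Spor.IsoM22 D.M) : IsOfJankoFourType G := by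
  have cp : ∀ g, g ∈ centralizer (zpowers D.p : Set G) ↔ g * D.p = D.p * g := fun g =>
    ⟨fun h => (h _ (mem_zpowers _)).symm, by
      rintro h _ ⟨i, rfl⟩; exact (Commute.zpow_right h i).eq.symm⟩
  have hX : centralizer {D.z} ⊓ centralizer (zpowers D.p : Set G) = D.X :=
    Subgroup.ext fun g => (and_congr Iff.rfl (cp g)).trans D.mem_X.symm
  have HQ : D.H ≤ normalizer (D.Q : Set G) := fun h hh => mem_normalizer_fintype fun _ => D.conj_Q hh
  have PH : zpowers D.p ≤ D.H := zpowers_le.2 D.p_mem_H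
  have ioP : D.io ∈ normalizer (zpowers D.p : Set G) := mem_normalizer_iff_map_conj_eq.2
    ((MonoidHom.map_zpowers _ _).trans ((congrArg zpowers D.io_p).trans zpowers_inv))
  obtain ⟨N, hN⟩ : ∃ N, N = D.Q ⊔ zpowers D.p := ⟨_, rfl⟩
  have QN : D.Q ≤ N := hN ▸ le_sup_left
  have NH : N ≤ D.H := hN ▸ sup_le D.Q_le_H PH
  have mN : ∀ g, g ∈ N ↔ ∃ a ∈ D.Q, ∃ b ∈ zpowers D.p, a * b = g := fun g => by
    rw [hN, mem_sup_of_norm' (PH.trans HQ)]
  have HN : D.H ≤ normalizer (N : Set G) := fun h hh => by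
    have h1 : D.X ⊔ zpowers D.io ≤ normalizer (N : Set G) := hN ▸ norm_sup
      ((sup_le D.X_le_H (zpowers_le.2 D.io_mem_H)).trans HQ)
      (sup_le (norm_of_cent fun x hx => (cp x).2 (D.mem_X.1 hx).2) (zpowers_le.2 ioP))
    obtain ⟨q, hq, x, hx, rfl | rfl⟩ := D.fn_dec hg hh
    · exact mul_mem (le_normalizer (QN hq)) (h1 (mem_sup_left hx))
    · exact mul_mem (le_normalizer (QN hq)) (h1 (mul_mem (mem_sup_left hx) (mem_sup_right (mem_zpowers _))))
  have XN : ∀ x : D.X, (x : G) ∈ N ↔ x ∈ D.C6 := fun x => by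
    rw [mN, D.mem_C6]
    refine ⟨fun ⟨a, ha, b, hb, e⟩ => ?_, fun ⟨i, hi⟩ => (mN _).1 (hi.mem (QN (D.ze_mem_Q _))
      (pow_mem (hN ▸ mem_sup_right (mem_zpowers _)) i))⟩
    have h1 := (D.X_inf_Q ((mul_mem_cancel_right (zpowers_le.2 D.p_mem_X hb)).1 (e ▸ x.2)) ha).mul (PH hb)
      (Co.Md.refl _ b)
    obtain ⟨i, rfl⟩ := (mem_powers_iff_mem_zpowers.2 hb)
    exact ⟨i, by rwa [e, one_mul] at h1⟩
  have nN : (N.subgroupOf D.H).Normal := (normal_subgroupOf_iff_le_normalizer NH).2 HN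
  refine ⟨D.z, zpowers D.p, ?_⟩
  rw [IsOfJankoFourTypeWith, ← D.Q_eq, hX]
  refine ⟨D.orderOf_z, H57.isExtraspecial_of_hom _ D.Q.subtype_injective D.Q.range_subtype D.card_Q
      (z := D.z) (D.ze_mem_Q _) D.z_ne_one (fun g hg => ⟨fun h => ?_, ?_⟩)
      (fun g hg => by simpa only [sq, Co.Md, one_mul] using D.sq_Q hg) ?_, D.card_Q,
    fun g hg => D.cent_Q hg.1 fun q hq => (hg.2 q hq).symm, ⟨N, QN, NH, HN, ?_, ⟨nN, ?_⟩, hN ▸ le_sup_right⟩,
    by rw [Nat.card_zpowers, D.orderOf_p], le_antisymm (fun g hg => (D.X_inf_Q (D.mem_X.2 ⟨D.Q_le_H hg.1,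
      (cp g).1 hg.2⟩) hg.1).mem (mem_zpowers _) (one_mem _)) (zpowers_le.2 ⟨D.ze_mem_Q _, (cp _).2 D.z_p⟩),
    fun h => ?_, zpowers_le.2 (D.fn_p_mem hM)⟩
  · obtain ⟨c, rfl⟩ := D.bk_cen (D.mem_L_of_cent hg (h _ (D.ze_mem_Q _)).symm (h _ (D.ze_mem_Q _)).symm) hg
      fun b _ hb => (h b hb).symm
    have h1 : ∀ w : W0, w.cd < 4 → zc (tv w) c = c := fun w hw => by
      obtain ⟨q, hq, e⟩ := D.surj_Q w hw
      exact D.ze_inj (by rw [← e, ← D.conj_ze (D.Q_le_K hq), h q hq, mul_inv_cancel_right])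
    rcases (by decide : ∀ c, zc (tv (wv 1)) c = c → zc (tv (wv 2)) c = c → c = 0 ∨ c = wv 4) c
      (h1 _ (by decide)) (h1 _ (by decide)) with rfl | rfl
    exacts [Or.inl D.ze_zero, Or.inr rfl]
  · rintro (rfl | rfl) a ha
    exacts [by simp, D.mem_H.1 (D.Q_le_H ha)]
  · obtain ⟨q, hq, e⟩ := D.surj_Q (wv 1) (by decide)
    refine ⟨q, hq, _, D.ze_mem_Q (wv 1), fun h => ?_⟩
    have := D.conj_ze (D.Q_le_K hq) (wv 1)
    rw [h, mul_inv_cancel_right, e] at this
    exact absurd (D.ze_inj this) (by decide)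
  · rw [hN, H49.card_sup_of_disjoint (Or.inr (PH.trans HQ)) (disjoint_iff.1 (disjoint_of_coprime_natCard (by
      rw [D.card_Q, Nat.card_zpowers, D.orderOf_p]; decide))), Nat.card_zpowers, D.orderOf_p, mul_comm]
  · obtain ⟨π, hπ⟩ : ∃ π, π = QuotientGroup.mk' (N.subgroupOf D.H) := ⟨_, rfl⟩
    have πs : Function.Surjective π := hπ ▸ QuotientGroup.mk'_surjective _
    have π1 : ∀ h, π h = 1 ↔ (h : G) ∈ N := fun h => hπ ▸ QuotientGroup.eq_one_iff h
    obtain ⟨ι, hι⟩ : ∃ ι, ι = π.comp (inclusion D.X_le_H) := ⟨_, rfl⟩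
    have ιx : ∀ x hx, ι ⟨x, hx⟩ = π ⟨x, D.X_le_H hx⟩ := fun x hx => by rw [hι]; rfl
    obtain ⟨e⟩ := hM
    let ε : ι.range ≃* Spor.M22 := ((QuotientGroup.quotientKerEquivRange ι).symm.trans
      (QuotientGroup.quotientMulEquivOfEq (Subgroup.ext fun x =>
        (show ι x = 1 ↔ _ from ιx x x.2 ▸ π1 _).trans (XN x)))).trans e
    have dec : ∀ γ, ∃ x : D.X, γ = ι x ∨ γ = π ⟨x * D.io, mul_mem (D.X_le_H x.2) D.io_mem_H⟩ := fun γ => by
      obtain ⟨h, rfl⟩ := πs γ
      obtain ⟨q, hq, x, hx, e | e⟩ := D.fn_dec hg h.2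
      · exact ⟨⟨x, hx⟩, Or.inl (by
          rw [show h = ⟨q, D.Q_le_H hq⟩ * ⟨x, D.X_le_H hx⟩ from Subtype.ext e, map_mul, (π1 _).2 (QN hq), one_mul,
            ιx])⟩
      · exact ⟨⟨x, hx⟩, Or.inr (by
          rw [show h = ⟨q, D.Q_le_H hq⟩ * ⟨x * D.io, mul_mem (D.X_le_H hx) D.io_mem_H⟩ from Subtype.ext e, map_mul,
            (π1 _).2 (QN hq), one_mul])⟩
    have tp : ∀ x ∈ D.X, x * D.io * D.p * (x * D.io)⁻¹ = D.p⁻¹ := fun x hx => by
      rw [show x * D.io * D.p * (x * D.io)⁻¹ = x * (D.io * D.p * D.io⁻¹) * x⁻¹ by group, D.io_p,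
        (Commute.inv_right (D.mem_X.1 hx).2).eq, mul_inv_cancel_right]
    have tX : ∀ x ∈ D.X, ∀ y ∈ D.X, x * D.io * y * (x * D.io)⁻¹ ∈ D.X := fun x hx y hy => by
      have h1 := mul_mem (D.X_le_H hx) D.io_mem_H
      refine D.mem_X.2 ⟨mul_mem (mul_mem h1 (D.X_le_H hy)) (inv_mem h1), ?_⟩
      have h2 : Commute (x * D.io * y * (x * D.io)⁻¹) D.p⁻¹ := by
        rw [← tp x hx, Commute, SemiconjBy, conj_mul, conj_mul, (D.mem_X.1 hy).2]
      simpa using h2.inv_right.eq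
    have : ι.range.Normal := ⟨by
      rintro _ ⟨y, rfl⟩ γ
      obtain ⟨x, rfl | rfl⟩ := dec γ
      · exact ⟨x * y * x⁻¹, by rw [map_mul, map_mul, map_inv]⟩
      · exact ⟨⟨_, tX x x.2 y y.2⟩, by rw [ιx, ιx y y.2, ← map_inv, ← map_mul, ← map_mul]; rfl⟩⟩
    have pp : D.p⁻¹ ≠ D.p := fun h => D.p_ne_one (by
      rw [← D.p3, pow_three]; nth_rewrite 4 [← h]; rw [mul_inv_cancel, mul_one])
    have inj : Function.Injective (MulAut.conjNormal : _ →* MulAut ι.range) :=
      (injective_iff_map_eq_one _).2 fun γ hγ => by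
        have h1 : ∀ y, γ * ι y * γ⁻¹ = ι y := fun y => (MulAut.conjNormal_apply γ (⟨_, y, rfl⟩ : ι.range)).symm.trans
          (congrArg (fun t : MulAut ι.range => (t ⟨_, y, rfl⟩ : D.H ⧸ N.subgroupOf D.H)) hγ)
        obtain ⟨x, rfl | rfl⟩ := dec γ
        · have h2 : ε ⟨_, x, rfl⟩ = 1 := mem_bot.1 (m22_center.le (mem_center_iff.2 fun b => by
            obtain ⟨⟨_, y, rfl⟩, rfl⟩ := ε.surjective b
            rw [← map_mul, ← map_mul]
            exact congrArg ε (Subtype.ext (mul_inv_eq_iff_eq_mul.1 (h1 y)).symm)))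
          exact congrArg Subtype.val (ε.map_eq_one_iff.1 h2)
        · have h2 : ∀ y ∈ D.X, ∃ c, (∀ w ∈ D.X, Commute w c) ∧ x * D.io * y * (x * D.io)⁻¹ = c * y := fun y hy => by
            have h3 := D.C6_le_center ((XN (⟨_, tX x x.2 y hy⟩ * ⟨y, hy⟩⁻¹)).1 ((π1 (⟨_, D.X_le_H (tX x x.2 y hy)⟩ *
              ⟨y, D.X_le_H hy⟩⁻¹)).1 (by
                rw [map_mul, map_inv, mul_inv_eq_one, ← ιx y hy, ← h1, ιx, ← map_inv, ← map_mul, ← map_mul]; rfl)))
            exact ⟨_, fun w hw => congrArg Subtype.val (mem_center_iff.1 h3 ⟨w, hw⟩),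
              (inv_mul_cancel_right _ _).symm⟩
          have h3 : ⁅D.X, D.X⁆ ≤ centralizer {(x : G) * D.io} := commutator_le.2 fun a ha b hb => by
            obtain ⟨c, c1, c2⟩ := h2 a ha
            obtain ⟨d, d1, d2⟩ := h2 b hb
            rw [mem_centralizer_singleton_iff, eq_comm, ← mul_inv_eq_iff_eq_mul, conjugate_commutatorElement, c2, d2,
              commutatorElement_def, commutatorElement_def]
            have cd : Commute (d * b) c := by
              rw [← d2]; exact c1 _ (tX x x.2 b hb)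
            calc c * a * (d * b) * (c * a)⁻¹ * (d * b)⁻¹ = c * (a * (d * b) * a⁻¹) * ((d * b) * c)⁻¹ := by group
              _ = c * (a * (d * b) * a⁻¹ * (d * b)⁻¹) * c⁻¹ := by rw [cd.eq]; group
              _ = a * (d * b) * a⁻¹ * (d * b)⁻¹ := by
                rw [← (((c1 a ha).mul_left cd).mul_left (c1 a ha).inv_left).mul_left cd.inv_left |>.eq,
                  mul_inv_cancel_right]
              _ = d * (a * b * a⁻¹ * b⁻¹) * d⁻¹ := by rw [← mul_assoc a, (d1 a ha).eq]; group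
              _ = _ := by
                rw [← (d1 _ (mul_mem (mul_mem (mul_mem ha hb) (inv_mem ha)) (inv_mem hb))).eq, mul_inv_cancel_right]
          have h4 := tp x x.2
          rw [← mem_centralizer_singleton_iff.1 (h3 (D.fn_p_mem ⟨e⟩)), mul_inv_cancel_right] at h4
          exact absurd h4.symm pp
    have c1 : Nat.card (MulAut ι.range) = 887040 := (Nat.card_congr (MulAut.congr ε).toEquiv).trans m22_aut
    have : Finite (MulAut ι.range) := Nat.finite_of_card_ne_zero (by rw [c1]; decide)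
    refine ⟨(MulEquiv.ofBijective _ ((Nat.bijective_iff_injective_and_card _).2 ⟨inj, le_antisymm
      (Nat.card_le_card_of_injective _ inj) ?_⟩)).trans (MulAut.congr ε)⟩
    have h1 := ι.range.card_mul_index
    have h2 : ι.range.index ≠ 1 := fun h => by
      obtain ⟨x, hx⟩ := (index_eq_one.1 h).ge (mem_top (π ⟨D.io⁻¹, inv_mem D.io_mem_H⟩))
      obtain ⟨q, hq, b, hb, e1⟩ := (mN _).1 ((π1 (⟨x, D.X_le_H x.2⟩ * ⟨D.io, D.io_mem_H⟩)).1 (by
        rw [map_mul, ← ιx x x.2, hx, ← map_mul, ← map_one π]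
        exact congrArg π (Subtype.ext (inv_mul_cancel _))))
      have h3 := tp x x.2
      rw [← show q * b = x * D.io from e1, show q * b * D.p * (q * b)⁻¹ = q * (b * D.p * b⁻¹) * q⁻¹ by group,
        (show Commute b D.p from (cp b).1 (zpowers_le.2 ((cp _).2 rfl) hb)).eq, mul_inv_cancel_right] at h3
      refine D.fn_p_not (mem_of_pow_mem_coprime (by decide : Nat.Coprime 2 3) ?_ (D.p3 ▸ one_mem _))
      have h4 := mul_mem (D.conj_Q D.p_mem_H hq) (inv_mem hq)
      rwa [show D.p * q * D.p⁻¹ * q⁻¹ = D.p * (q * D.p * q⁻¹)⁻¹ by group, h3, inv_inv, ← sq] at h4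
    have h3 := index_ne_zero_of_finite (H := ι.range)
    rw [Nat.card_congr ε.toEquiv, H14.card_M22] at h1
    rw [c1, ← h1]
    omega
  · have h1 := D.io_p
    rw [(D.mem_X.1 (h.le ⟨D.io_mem_H, ioP⟩)).2, mul_inv_cancel_right] at h1
    exact D.p_ne_one (by rw [← D.p3, pow_three]; nth_rewrite 4 [h1]; rw [mul_inv_cancel, mul_one])

end Qd

end Cfsg.Agent.J4K
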